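import Cfsg.Agent.Lib.SL2Trace.Tori
import Cfsg.Agent.Lib.GL2Char.Unipotent
import Cfsg.Agent.Lib.Linear.Card

/-! Conjugacy class sizes of the projective special linear groups of degree two. -/

set_option autoImplicit false

namespace CfsgLib.PSLTwoClasses

open Matrix CfsgLib.SL2Trace

variable {F : Type*} [Field F]

local notation "SL2" => Matrix.SpecialLinearGroup (Fin 2) F
local notation "PS2" => Matrix.ProjectiveSpecialLinearGroup (Fin 2) F

/-- trace of an element of the special linear group -/
abbrev tr (M : SL2) : F := (M : Matrix (Fin 2) (Fin 2) F).trace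

theorem center_cases {z : SL2} (hz : z ∈ Subgroup.center SL2) : z = 1 ∨ z = -1 := by
  obtain ⟨h1, h2, h3⟩ := mem_center_iff_entries.1 hz
  have hd := det_coe z
  rw [h1, h2, h3] at hd
  have h : ((z : Matrix (Fin 2) (Fin 2) F) 0 0 - 1) * ((z : Matrix (Fin 2) (Fin 2) F) 0 0 + 1) = 0 := by
    linear_combination hd + ((z : Matrix (Fin 2) (Fin 2) F) 0 0 + (z : Matrix (Fin 2) (Fin 2) F) 1 1) * h3
  rcases mul_eq_zero.1 h with h | h
  · left
    apply Subtype.ext
    ext i j
    fin_cases i <;> fin_cases j <;> simp [h1, h2, ← h3, sub_eq_zero.1 h]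
  · right
    apply Subtype.ext
    ext i j
    fin_cases i <;> fin_cases j <;> simp [h1, h2, ← h3, eq_neg_of_add_eq_zero_left h]

theorem tr_neg (M : SL2) : tr (-M) = -tr M := by
  simp [tr, SpecialLinearGroup.coe_neg, trace_neg]

theorem neg_mem_center : (-1 : SL2) ∈ Subgroup.center SL2 :=
  mem_center_iff_entries.2 ⟨by simp, by simp, by simp⟩

theorem centralizer_neg (M : SL2) :
    Subgroup.centralizer ({-M} : Set SL2) = Subgroup.centralizer ({M} : Set SL2) := by
  ext h
  rw [Subgroup.mem_centralizer_singleton_iff, Subgroup.mem_centralizer_singleton_iff]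
  constructor
  · intro e
    rw [mul_neg, neg_mul] at e
    exact neg_injective e
  · intro e
    rw [mul_neg, neg_mul, e]

theorem card_centralizer_conj {G : Type*} [Group G] {x y : G} (h : IsConj x y) :
    Nat.card (Subgroup.centralizer ({x} : Set G)) = Nat.card (Subgroup.centralizer ({y} : Set G)) := by
  obtain ⟨P, rfl⟩ := isConj_iff.1 h
  exact Nat.card_congr
    { toFun := fun c => ⟨P * c.1 * P⁻¹, by
        have := Subgroup.mem_centralizer_singleton_iff.1 c.2
        rw [Subgroup.mem_centralizer_singleton_iff]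
        calc P * c.1 * P⁻¹ * (P * x * P⁻¹) = P * (c.1 * x) * P⁻¹ := by group
          _ = P * (x * c.1) * P⁻¹ := by rw [this]
          _ = _ := by group⟩
      invFun := fun c => ⟨P⁻¹ * c.1 * P, by
        have := Subgroup.mem_centralizer_singleton_iff.1 c.2
        rw [Subgroup.mem_centralizer_singleton_iff]
        calc P⁻¹ * c.1 * P * x = P⁻¹ * (c.1 * (P * x * P⁻¹)) * P := by group
          _ = P⁻¹ * ((P * x * P⁻¹) * c.1) * P := by rw [this]
          _ = _ := by group⟩
      left_inv := fun c => Subtype.ext (by group)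
      right_inv := fun c => Subtype.ext (by group) }

/-- the preimage of a centraliser -/
def pre (M : SL2) : Subgroup SL2 :=
  (Subgroup.centralizer ({toPSL M} : Set PS2)).comap (QuotientGroup.mk' (Subgroup.center SL2))

theorem index_pre (M : SL2) :
    (pre M).index = (Subgroup.centralizer ({toPSL M} : Set PS2)).index :=
  Subgroup.index_comap_of_surjective _ (QuotientGroup.mk'_surjective _)

theorem mem_pre {M h : SL2} : h ∈ pre M ↔ h * M = M * h ∨ h * M = -(M * h) := by
  rw [pre, Subgroup.mem_comap, Subgroup.mem_centralizer_singleton_iff, QuotientGroup.mk'_apply,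
    toPSL, ← QuotientGroup.mk_mul, ← QuotientGroup.mk_mul, QuotientGroup.eq]
  constructor
  · intro hz
    rcases center_cases hz with e | e
    · left
      exact inv_mul_eq_one.1 e
    · right
      rw [inv_mul_eq_iff_eq_mul, mul_neg, mul_one] at e
      rw [e, neg_neg]
  · rintro (e | e)
    · rw [e, inv_mul_cancel]; exact one_mem _
    · have : (h * M)⁻¹ * (M * h) = -1 := by
        rw [inv_mul_eq_iff_eq_mul, mul_neg, mul_one, e, neg_neg]
      rw [this]; exact neg_mem_center

theorem index_of_center {M : SL2} (h : M ∈ Subgroup.center SL2) :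
    (Subgroup.centralizer ({toPSL M} : Set PS2)).index = 1 := by
  rw [Subgroup.index_eq_one, Subgroup.eq_top_iff']
  intro x
  rw [Subgroup.mem_centralizer_singleton_iff, show toPSL M = 1 from (QuotientGroup.eq_one_iff _).2 h,
    mul_one, one_mul]

theorem index_eq_of_trace {M : SL2} (h : tr M ≠ 0 ∨ (2 : F) = 0) :
    (Subgroup.centralizer ({toPSL M} : Set PS2)).index =
      (Subgroup.centralizer ({M} : Set SL2)).index := by
  rw [← index_pre]
  congr 1
  ext x
  rw [mem_pre, Subgroup.mem_centralizer_singleton_iff]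
  refine ⟨fun hx => hx.elim id fun e => ?_, Or.inl⟩
  by_cases h2 : (2 : F) = 0
  swap
  · exfalso
    have h1 : tr (x * M * x⁻¹) = -tr M := by
      rw [e, neg_mul, mul_inv_cancel_right, tr_neg]
    rw [tr, trace_mul_mul_inv] at h1
    have h3 : (2 : F) * tr M = 0 := by simp only [tr]; linear_combination h1
    exact (h.resolve_right h2) ((mul_eq_zero.1 h3).resolve_left h2)
  · rw [e]
    apply Subtype.ext
    rw [SpecialLinearGroup.coe_neg]
    ext i j
    rw [Matrix.neg_apply]
    linear_combination -((M * x : SL2) : Matrix (Fin 2) (Fin 2) F) i j * h2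

theorem index_mul_two [Fintype F] {M : SL2} (h2 : (2 : F) ≠ 0) (h : tr M = 0) :
    (Subgroup.centralizer ({toPSL M} : Set PS2)).index * 2 =
      (Subgroup.centralizer ({M} : Set SL2)).index := by
  have h4 : (4 : F) ≠ 0 := by
    intro e
    exact h2 (mul_self_eq_zero.1 (by linear_combination e))
  obtain ⟨U, hU⟩ := isConj_of_trace_eq M (-M) (by
    show tr M ^ 2 ≠ 4
    rw [h, zero_pow two_ne_zero]; exact Ne.symm h4) (by
    show tr (-M) = tr M
    rw [tr_neg, h, neg_zero])
  have hne : -M ≠ M := by
    intro e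
    have e' : ∀ i j, -(M : Matrix (Fin 2) (Fin 2) F) i j = (M : Matrix (Fin 2) (Fin 2) F) i j := by
      intro i j
      have := congrFun (congrFun (congrArg Subtype.val e) i) j
      simpa using this
    have hz : ∀ i j, (M : Matrix (Fin 2) (Fin 2) F) i j = 0 := fun i j => by
      have : (2 : F) * (M : Matrix (Fin 2) (Fin 2) F) i j = 0 := by linear_combination -(e' i j)
      exact (mul_eq_zero.1 this).resolve_left h2
    have hd := det_coe M
    rw [hz, hz 0 1] at hd
    simp at hd
  have hle : Subgroup.centralizer ({M} : Set SL2) ≤ pre M := fun x hx =>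
    mem_pre.2 (Or.inl (Subgroup.mem_centralizer_singleton_iff.1 hx))
  have hUM : U * M = -(M * U) := by
    rw [← neg_mul, hU]; group
  have hrel : (Subgroup.centralizer ({M} : Set SL2)).relIndex (pre M) = 2 := by
    rw [Subgroup.relIndex, Subgroup.index_eq_two_iff]
    refine ⟨⟨U, mem_pre.2 (Or.inr hUM)⟩, fun b => ?_⟩
    simp only [Subgroup.mem_subgroupOf, Subgroup.coe_mul, Subgroup.mem_centralizer_singleton_iff]
    rcases mem_pre.1 b.2 with e | e
    · refine Or.inr ⟨e, fun e' => hne ?_⟩
      have : (b : SL2) * (U * M) = (b : SL2) * (M * U) := by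
        rw [← mul_assoc, e', ← mul_assoc M, ← e, mul_assoc]
      rw [hUM, mul_right_inj] at this
      rw [← neg_mul, mul_left_inj] at this
      exact this
    · refine Or.inl ⟨?_, fun e' => hne ?_⟩
      · rw [mul_assoc, hUM, mul_neg, ← mul_assoc, e, neg_mul, neg_neg, mul_assoc]
      · rw [e'] at e
        rw [← neg_mul, mul_left_inj] at e
        exact e.symm
  have hfin := Subgroup.relIndex_mul_index hle
  rw [hrel] at hfin
  rw [← index_pre, mul_comm, hfin]

theorem card_sq_eq_one (F : Type*) [Field F] [Fintype F] :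
    ((2 : F) = 0 → Nat.card {a : F // a ^ 2 = 1} = 1) ∧
    ((2 : F) ≠ 0 → Nat.card {a : F // a ^ 2 = 1} = 2) := by
  classical
  have : ∀ a : F, a ^ 2 = 1 ↔ a ∈ ({1, -1} : Finset F) := fun a => by
    simp [sq_eq_one_iff]
  rw [Nat.card_congr (Equiv.subtypeEquivRight this), Nat.card_eq_fintype_card, Fintype.card_coe]
  refine ⟨fun h => ?_, fun h => Finset.card_pair fun e => h (by linear_combination e)⟩
  rw [show (-1 : F) = 1 by linear_combination -h]
  simp

variable [Fintype F]

theorem card_centralizer_of_unipotent {M : SL2} (h : tr M ^ 2 = 4)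
    (hc : M ∉ Subgroup.center SL2) :
    Nat.card (Subgroup.centralizer ({M} : Set SL2)) =
      Nat.card {a : F // a ^ 2 = 1} * Fintype.card F := by
  have key : ∀ N : SL2, tr N = 2 → N ≠ 1 →
      Nat.card (Subgroup.centralizer ({N} : Set SL2)) =
        Nat.card {a : F // a ^ 2 = 1} * Fintype.card F := by
    intro N ht hN
    obtain ⟨b, hb, hbc⟩ := GL2Char.exists_conj_u ht hN
    rw [card_centralizer_conj hbc, GL2Char.card_centralizer_u hb, Nat.card_eq_fintype_card (α := F)]
  have h0 : (tr M - 2) * (tr M + 2) = 0 := by linear_combination h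
  rcases mul_eq_zero.1 h0 with h0 | h0
  · exact key M (sub_eq_zero.1 h0) fun e => hc (e ▸ one_mem _)
  · rw [← centralizer_neg]
    refine key (-M) (by rw [tr_neg]; linear_combination -h0) fun e => hc ?_
    rw [neg_eq_iff_eq_neg.1 e]
    exact neg_mem_center

theorem comp_not_center (τ : F) : comp τ ∉ Subgroup.center SL2 := by
  rw [mem_center_iff_entries]
  simp [coe_comp]

theorem card_mul_index (M : SL2) :
    Nat.card (Subgroup.centralizer ({M} : Set SL2)) *
      (Subgroup.centralizer ({M} : Set SL2)).index =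
        Fintype.card F * ((Fintype.card F - 1) * (Fintype.card F + 1)) := by
  rw [Subgroup.card_mul_index, Linear.card_SL_two, mul_comm (Fintype.card F - 1), ← Nat.sq_sub_sq,
    one_pow]

theorem index_regular {M : SL2} (h : tr M ^ 2 ≠ 4) :
    ((∃ u : F, u ^ 2 - tr M * u + 1 = 0) →
      (Subgroup.centralizer ({M} : Set SL2)).index = Fintype.card F * (Fintype.card F + 1)) ∧
    ((¬ ∃ u : F, u ^ 2 - tr M * u + 1 = 0) →
      (Subgroup.centralizer ({M} : Set SL2)).index = Fintype.card F * (Fintype.card F - 1)) := by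
  obtain ⟨-, h1, h2⟩ := centralizer_card_cyclic M h
  have hq : 1 < Fintype.card F := Fintype.one_lt_card
  have hm := card_mul_index M
  constructor
  · intro hu
    rw [h1 hu, mul_left_comm] at hm
    exact Nat.eq_of_mul_eq_mul_left (by omega) hm
  · intro hu
    rw [h2 hu, ← mul_assoc, mul_comm (Fintype.card F * (Fintype.card F - 1))] at hm
    exact Nat.eq_of_mul_eq_mul_left (by omega) hm

theorem two_eq_zero_iff : (2 : F) = 0 ↔ 2 ∣ Fintype.card F := by
  constructor
  · intro h
    have hc : ringChar F = 2 := by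
      by_contra hne
      exact Ring.two_ne_zero hne h
    exact Nat.dvd_of_mod_eq_zero (FiniteField.even_card_of_char_two hc)
  · intro h
    haveI := ringChar.charP F
    have h0 := CharP.cast_eq_zero F (ringChar F)
    rw [FiniteField.even_card_iff_char_two.2 (Nat.mod_eq_zero_of_dvd h)] at h0
    exact_mod_cast h0

theorem range_even (h2 : 2 ∣ Fintype.card F) (h4 : 4 ≤ Fintype.card F) :
    Set.range (fun g : PS2 => (Subgroup.centralizer ({g} : Set PS2)).index) =
      {1, Fintype.card F * (Fintype.card F - 1), Fintype.card F ^ 2 - 1,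
        Fintype.card F * (Fintype.card F + 1)} := by
  have h20 : (2 : F) = 0 := two_eq_zero_iff.2 h2
  have hi : ∀ M : SL2, (Subgroup.centralizer ({toPSL M} : Set PS2)).index =
      (Subgroup.centralizer ({M} : Set SL2)).index := fun M => index_eq_of_trace (Or.inr h20)
  have huni : ∀ M : SL2, tr M ^ 2 = 4 → M ∉ Subgroup.center SL2 →
      (Subgroup.centralizer ({toPSL M} : Set PS2)).index = Fintype.card F ^ 2 - 1 := by
    intro M ht hc
    have hm := card_mul_index M
    rw [card_centralizer_of_unipotent ht hc, (card_sq_eq_one F).1 h20, one_mul] at hm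
    rw [hi, Nat.eq_of_mul_eq_mul_left Fintype.card_pos hm, mul_comm, ← Nat.sq_sub_sq, one_pow]
  ext n
  simp only [Set.mem_range, Set.mem_insert_iff, Set.mem_singleton_iff]
  constructor
  · rintro ⟨g, rfl⟩
    obtain ⟨M, rfl⟩ := QuotientGroup.mk_surjective g
    by_cases hc : M ∈ Subgroup.center SL2
    · exact Or.inl (index_of_center hc)
    by_cases ht : tr M ^ 2 = 4
    · exact Or.inr (Or.inr (Or.inl (huni M ht hc)))
    by_cases hu : ∃ u : F, u ^ 2 - tr M * u + 1 = 0
    · exact Or.inr (Or.inr (Or.inr ((hi M).trans ((index_regular ht).1 hu))))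
    · exact Or.inr (Or.inl ((hi M).trans ((index_regular ht).2 hu)))
  · rintro (rfl | rfl | rfl | rfl)
    · exact ⟨toPSL 1, index_of_center (one_mem _)⟩
    · obtain ⟨τ, hu⟩ := exists_anisotropic_trace (F := F)
      have htr : tr (comp τ) = τ := by simp [tr, trace_fin_two, coe_comp]
      refine ⟨toPSL (comp τ), (hi _).trans ((index_regular ?_).2 ?_)⟩
      · rw [htr]; exact fun e => hu (exists_root_of_sq_eq_four τ e)
      · rwa [htr]
    · refine ⟨toPSL (comp (2 : F)), huni _ ?_ (comp_not_center _)⟩
      simp [tr, trace_fin_two, coe_comp]; norm_num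
    · obtain ⟨τ, ht, hu⟩ := exists_isotropic_trace (F := F) h4
      have htr : tr (comp τ) = τ := by simp [tr, trace_fin_two, coe_comp]
      refine ⟨toPSL (comp τ), (hi _).trans ((index_regular ?_).1 ?_)⟩
      · rwa [htr]
      · rwa [htr]

theorem range_odd (hodd : ¬ 2 ∣ Fintype.card F) (h7 : 7 ≤ Fintype.card F) :
    Set.range (fun g : PS2 => (Subgroup.centralizer ({g} : Set PS2)).index) =
      {1, (Fintype.card F ^ 2 - 1) / 2,
        (if Fintype.card F % 4 = 1 then Fintype.card F * (Fintype.card F + 1) / 2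
          else Fintype.card F * (Fintype.card F - 1) / 2),
        Fintype.card F * (Fintype.card F - 1), Fintype.card F * (Fintype.card F + 1)} := by
  classical
  have h20 : (2 : F) ≠ 0 := fun e => hodd (two_eq_zero_iff.1 e)
  have h40 : (4 : F) ≠ 0 := fun e => h20 (mul_self_eq_zero.1 (by linear_combination e))
  have huni : ∀ M : SL2, tr M ^ 2 = 4 → M ∉ Subgroup.center SL2 →
      (Subgroup.centralizer ({toPSL M} : Set PS2)).index = (Fintype.card F ^ 2 - 1) / 2 := by
    intro M ht hc
    have hm := card_mul_index M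
    rw [card_centralizer_of_unipotent ht hc, (card_sq_eq_one F).2 h20,
      mul_comm 2 (Fintype.card F), mul_assoc] at hm
    have h1 := Nat.eq_of_mul_eq_mul_left Fintype.card_pos hm
    have h0 : tr M ≠ 0 := fun e => h40 (by rw [← ht, e, zero_pow two_ne_zero])
    rw [index_eq_of_trace (Or.inl h0)]
    have h2 : Fintype.card F ^ 2 - 1 = 2 * (Subgroup.centralizer ({M} : Set SL2)).index := by
      rw [h1, mul_comm, ← Nat.sq_sub_sq, one_pow]
    omega
  have hsq : (∃ u : F, u ^ 2 - 0 * u + 1 = 0) ↔ Fintype.card F % 4 = 1 := by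
    have hiff := FiniteField.isSquare_neg_one_iff (F := F)
    constructor
    · rintro ⟨u, hu⟩
      have := hiff.1 ⟨u, by linear_combination -hu⟩
      omega
    · intro h
      obtain ⟨u, hu⟩ := hiff.2 (by omega)
      exact ⟨u, by linear_combination -hu⟩
  have hzero : ∀ M : SL2, tr M = 0 → (Subgroup.centralizer ({toPSL M} : Set PS2)).index =
      if Fintype.card F % 4 = 1 then Fintype.card F * (Fintype.card F + 1) / 2
      else Fintype.card F * (Fintype.card F - 1) / 2 := by
    intro M h0
    have hm := index_mul_two h20 h0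
    have hr : tr M ^ 2 ≠ 4 := by rw [h0, zero_pow two_ne_zero]; exact Ne.symm h40
    split
    · next h =>
      rw [(index_regular hr).1 (by rw [h0]; exact hsq.2 h)] at hm
      omega
    · next h =>
      rw [(index_regular hr).2 (by rw [h0]; exact fun e => h (hsq.1 e))] at hm
      omega
  have htr : ∀ τ : F, tr (comp τ) = τ := fun τ => by simp [tr, trace_fin_two, coe_comp]
  ext n
  simp only [Set.mem_range, Set.mem_insert_iff, Set.mem_singleton_iff]
  constructor
  · rintro ⟨g, rfl⟩
    obtain ⟨M, rfl⟩ := QuotientGroup.mk_surjective g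
    by_cases hc : M ∈ Subgroup.center SL2
    · exact Or.inl (index_of_center hc)
    by_cases ht : tr M ^ 2 = 4
    · exact Or.inr (Or.inl (huni M ht hc))
    by_cases h0 : tr M = 0
    · exact Or.inr (Or.inr (Or.inl (hzero M h0)))
    by_cases hu : ∃ u : F, u ^ 2 - tr M * u + 1 = 0
    · exact Or.inr (Or.inr (Or.inr (Or.inr
        ((index_eq_of_trace (Or.inl h0)).trans ((index_regular ht).1 hu)))))
    · exact Or.inr (Or.inr (Or.inr (Or.inl
        ((index_eq_of_trace (Or.inl h0)).trans ((index_regular ht).2 hu)))))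
  · rintro (rfl | rfl | rfl | rfl | rfl)
    · exact ⟨toPSL 1, index_of_center (one_mem _)⟩
    · refine ⟨toPSL (comp (2 : F)), huni _ ?_ (comp_not_center _)⟩
      rw [htr]; norm_num
    · exact ⟨toPSL (comp (0 : F)), hzero _ (htr 0)⟩
    · -- a generator of an anisotropic torus
      obtain ⟨τ, hu⟩ := exists_anisotropic_trace (F := F)
      have hτ : τ ^ 2 ≠ 4 := fun e => hu (exists_root_of_sq_eq_four τ e)
      have hcyc := isCyclic_centralizer_comp τ hτ
      obtain ⟨c, hc⟩ := IsCyclic.exists_ofOrder_eq_natCard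
        (α := Subgroup.centralizer ({comp τ} : Set SL2))
      rw [(card_centralizer_comp τ hτ).2 hu, ← Subgroup.orderOf_coe] at hc
      have hctr : tr (comp τ) ^ 2 ≠ 4 := by rwa [htr]
      have hcc : (c : SL2) ∉ Subgroup.center SL2 := fun e => by
        have h := orderOf_dvd_of_pow_eq_one ((sq (c : SL2)).trans (mul_self_eq_one_of_mem_center e))
        rw [hc] at h
        have := Nat.le_of_dvd two_pos h
        omega
      have hreg := regular_of_mem hctr c.2 hcc
      have h0 : tr (c : SL2) ≠ 0 := by
        intro h0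
        have h1 : (c : SL2) ^ 2 = -1 := by
          rw [sq]
          apply Subtype.ext
          show ((c : SL2) : Matrix (Fin 2) (Fin 2) F) * ((c : SL2) : Matrix (Fin 2) (Fin 2) F) =
            ((-1 : SL2) : Matrix (Fin 2) (Fin 2) F)
          rw [mul_self_eq, show (((c : SL2)) : Matrix (Fin 2) (Fin 2) F).trace = 0 from h0,
            zero_smul, zero_sub, SpecialLinearGroup.coe_neg]
          rfl
        have h4 : (c : SL2) ^ 4 = 1 := by
          rw [show (4 : ℕ) = 2 * 2 from rfl, pow_mul, h1, sq, neg_mul_neg, one_mul]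
        have := Nat.le_of_dvd (by norm_num) (orderOf_dvd_of_pow_eq_one h4)
        omega
      refine ⟨toPSL (c : SL2), (index_eq_of_trace (Or.inl h0)).trans ((index_regular hreg).2 ?_)⟩
      intro hr
      have h1 := (centralizer_card_cyclic _ hreg).2.1 hr
      rw [centralizer_eq hctr c.2 hcc, (card_centralizer_comp τ hτ).2 hu] at h1
      omega
    · obtain ⟨u, -, hu⟩ := Finset.exists_mem_notMem_of_card_lt_card
        (s := insert (0 : F) (Finset.univ.filter fun x : F => x ^ 4 = 1)) (t := Finset.univ) (by
        rw [Finset.card_univ]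
        refine lt_of_le_of_lt (Finset.card_insert_le _ _) ?_
        have : (Finset.univ.filter fun x : F => x ^ 4 = 1).card ≤ 4 := by
          refine (Finset.card_le_card (t := (Polynomial.nthRoots 4 (1 : F)).toFinset) ?_).trans
            ((Multiset.toFinset_card_le _).trans (Polynomial.card_nthRoots 4 1))
          intro x hx
          simpa [Polynomial.mem_nthRoots] using hx
        omega)
      simp only [Finset.mem_insert, Finset.mem_filter, Finset.mem_univ, true_and, not_or] at hu
      obtain ⟨hu0, hu4⟩ := hu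
      have hinv : u * u⁻¹ = 1 := mul_inv_cancel₀ hu0
      have h0 : u + u⁻¹ ≠ 0 := fun e => hu4 (by
        have h1 : u ^ 2 = -1 := by linear_combination u * e - hinv
        linear_combination (u ^ 2 - 1) * h1)
      have ht : (u + u⁻¹) ^ 2 ≠ 4 := by
        intro e
        have h1 : (u - u⁻¹) ^ 2 = 0 := by linear_combination e - 4 * hinv
        have h2 : u ^ 2 = 1 := by
          linear_combination u * ((pow_eq_zero_iff two_ne_zero).1 h1) + hinv
        exact hu4 (by linear_combination (u ^ 2 + 1) * h2)
      refine ⟨toPSL (comp (u + u⁻¹)), (index_eq_of_trace (Or.inl ?_)).trans ((index_regular ?_).1 ?_)⟩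
      · rw [htr]; exact h0
      · rw [htr]; exact ht
      · rw [htr]; exact ⟨u, by linear_combination -hinv⟩

end CfsgLib.PSLTwoClasses
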